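import Cfsg.Agent.Lib.Fi23Plus.Data
import Cfsg.Agent.Lib.Orthogonal.POmega
import Cfsg.Agent.Lib.AutPOmega.Forms
import Cfsg.Agent.Lib.Transvec.QuadGen
import Cfsg.Agent.Lib.Transvec.OrthWreathTools

/-!
The orthogonal group in dimension eight over the field of three elements on the 1080 lines of norm one.
-/

set_option autoImplicit false
set_option maxRecDepth 100000

namespace Cfsg.Agent.Fi23Plus

open Cfsg.Agent.CosetCert
open Cfsg.Agent.Transvec
open Cfsg.Agent.Transvec.Orth
open scoped Matrix commutatorElement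

/-- The module. -/
abbrev V8 := Fin 4 ⊕ Fin 4 → ZMod 3

/-- The form. -/
abbrev Qp : V8 → ZMod 3 := Cfsg.quadFormPlus 4 (ZMod 3)

/-- The isometries. -/
abbrev OP := Cfsg.isometryGroup (ZMod 3) Qp

/-- The position of a coordinate. -/
def pos : Fin 4 ⊕ Fin 4 → ℕ
  | .inl i => i
  | .inr i => 4 + i

/-- A ternary digit. -/
def dig (c k : ℕ) : ℕ := c / 3 ^ k % 3

/-- The vector of a code. -/
def vecC (c : ℕ) : V8 := fun k => (dig c (pos k) : ZMod 3)

/-- The code with given digits. -/
def mk8 (f : ℕ → ℕ) : ℕ :=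
  f 0 % 3 + 3 * (f 1 % 3) + 9 * (f 2 % 3) + 27 * (f 3 % 3) + 81 * (f 4 % 3) + 243 * (f 5 % 3) +
    729 * (f 6 % 3) + 2187 * (f 7 % 3)

theorem mk8_lt (f : ℕ → ℕ) : mk8 f < 6561 := by unfold mk8; omega

theorem dig_mk8 (f : ℕ → ℕ) {k : ℕ} (hk : k < 8) : dig (mk8 f) k = f k % 3 := by
  interval_cases k <;> simp [dig, mk8] <;> omega

theorem pos_lt (k : Fin 4 ⊕ Fin 4) : pos k < 8 := by
  rcases k with i | i <;> simp [pos] <;> omega

/-- The code of a vector. -/
def code (v : V8) : ℕ := mk8 fun k =>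
  if h : k < 4 then (v (.inl ⟨k, h⟩)).val else if h' : k < 8 then (v (.inr ⟨k - 4, by omega⟩)).val else 0

theorem vecC_code (v : V8) : vecC (code v) = v := by
  funext k
  rcases k with i | i
  · show ((dig (code v) (i : ℕ) : ℕ) : ZMod 3) = v (Sum.inl i)
    rw [code, dig_mk8 _ (show (i : ℕ) < 8 by omega), dif_pos i.2, ZMod.natCast_mod, ZMod.natCast_zmod_val]
  · show ((dig (code v) (4 + (i : ℕ)) : ℕ) : ZMod 3) = v (Sum.inr i)
    rw [code, dig_mk8 _ (show 4 + (i : ℕ) < 8 by omega), dif_neg (show ¬ (4 + (i : ℕ) < 4) by omega),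
      dif_pos (show 4 + (i : ℕ) < 8 by omega), ZMod.natCast_mod, ZMod.natCast_zmod_val]
    exact congrArg (fun j => v (Sum.inr j)) (Fin.ext (by simp))

theorem code_inj {c d : ℕ} (hc : c < 6561) (hd : d < 6561) (h : vecC c = vecC d) : c = d := by
  have hk : ∀ k < 8, dig c k = dig d k := by
    intro k hk
    have e : ∀ i : Fin 4 ⊕ Fin 4, dig c (pos i) = dig d (pos i) := fun i => by
      have := congrFun h i
      simp only [vecC] at this
      have h' := (ZMod.natCast_eq_natCast_iff' _ _ 3).1 this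
      simpa [dig] using h'
    interval_cases k
    exacts [e (.inl 0), e (.inl 1), e (.inl 2), e (.inl 3), e (.inr 0), e (.inr 1), e (.inr 2), e (.inr 3)]
  have h0 := hk 0 (by norm_num); have h1 := hk 1 (by norm_num); have h2 := hk 2 (by norm_num)
  have h3 := hk 3 (by norm_num); have h4 := hk 4 (by norm_num); have h5 := hk 5 (by norm_num)
  have h6 := hk 6 (by norm_num); have h7 := hk 7 (by norm_num)
  simp only [dig] at h0 h1 h2 h3 h4 h5 h6 h7
  norm_num at h0 h1 h2 h3 h4 h5 h6 h7
  omega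

/-- The code of the negative. -/
def negN (c : ℕ) : ℕ := mk8 fun k => 3 - dig c k

theorem vecC_negN (c : ℕ) : vecC (negN c) = -vecC c := by
  funext k
  show (dig (negN c) (pos k) : ZMod 3) = -(dig c (pos k) : ZMod 3)
  rw [negN, dig_mk8 _ (pos_lt k), ZMod.natCast_mod]
  have : dig c (pos k) < 3 := Nat.mod_lt _ (by norm_num)
  interval_cases dig c (pos k) <;> decide

/-- The norm of a code. -/
def qN (c : ℕ) : ℕ := (dig c 0 * dig c 4 + dig c 1 * dig c 5 + dig c 2 * dig c 6 + dig c 3 * dig c 7) % 3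

theorem q_vecC (c : ℕ) : Qp (vecC c) = (qN c : ZMod 3) := by
  rw [qN, ZMod.natCast_mod]
  simp [Qp, Cfsg.quadFormPlus, Fin.sum_univ_four, vecC, pos]

/-- The code of the vector of a line. -/
def vc (b : ℕ) : ℕ := Nat.land (Nat.shiftRight vcode (Nat.mul 16 b)) 65535

/-- The line of a code. -/
def vix (c : ℕ) : ℕ := Nat.land (Nat.shiftRight vixT (Nat.mul 11 c)) 2047

theorem vc_ok : allBelow (fun b => Nat.blt (vc b) 6561 && (Nat.beq (qN (vc b)) 1 && (Nat.beq (vix (vc b)) b &&
    Nat.beq (vix (negN (vc b))) b))) 1080 = true := by decide +kernel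

theorem vix_ok : allBelow (fun c => !(Nat.beq (qN c) 1) || (Nat.blt (vix c) 1080 &&
    (Nat.beq (vc (vix c)) c || Nat.beq (vc (vix c)) (negN c)))) 6561 = true := by decide +kernel

/-- The vector of a line. -/
def vec (b : Fin 1080) : V8 := vecC (vc b)

theorem q_vec (b : Fin 1080) : Qp (vec b) = 1 := by
  have h := allBelow_spec vc_ok b.2
  simp only [Bool.and_eq_true, Nat.beq_eq] at h
  rw [vec, q_vecC, h.2.1, Nat.cast_one]

theorem vec_inj {a b : Fin 1080} (h : vec a = vec b ∨ vec a = -vec b) : a = b := by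
  have ha := allBelow_spec vc_ok a.2
  have hb := allBelow_spec vc_ok b.2
  simp only [Bool.and_eq_true, Nat.beq_eq, Nat.blt_eq] at ha hb
  obtain ⟨a1, -, a2, -⟩ := ha
  obtain ⟨b1, -, b2, b3⟩ := hb
  refine Fin.ext ?_
  rcases h with h | h
  · rw [← a2, ← b2, code_inj a1 b1 h]
  · rw [← a2, ← b3, code_inj a1 (mk8_lt _) (h.trans (vecC_negN _).symm)]
    rfl

theorem vec_surj {v : V8} (h : Qp v = 1) : ∃ b, vec b = v ∨ vec b = -v := by
  have hc : code v < 6561 := mk8_lt _
  have hq : qN (code v) = 1 := by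
    rw [← vecC_code v, q_vecC, ← Nat.cast_one, ZMod.natCast_eq_natCast_iff'] at h
    have : qN (code v) < 3 := Nat.mod_lt _ (by norm_num)
    omega
  have h1 := allBelow_spec vix_ok hc
  simp only [hq, Nat.beq_refl, Bool.not_true, Bool.false_or, Bool.and_eq_true, Bool.or_eq_true, Nat.blt_eq,
    Nat.beq_eq] at h1
  refine ⟨⟨vix (code v), h1.1⟩, ?_⟩
  rcases h1.2 with e | e
  · exact Or.inl (by rw [vec, e, vecC_code])
  · exact Or.inr (by rw [vec, e, vecC_negN, vecC_code])

/-- The isometry of a matrix acting. -/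
abbrev act (g : OP) (x : V8) : V8 := mv (g : GL (Fin 4 ⊕ Fin 4) (ZMod 3)) x

theorem exists_line (g : OP) (b : Fin 1080) : ∃ c, vec c = act g (vec b) ∨ vec c = -act g (vec b) :=
  vec_surj (by rw [mem_isometry.1 g.2]; exact q_vec b)

/-- The image of a line. -/
noncomputable def lineMove (g : OP) (b : Fin 1080) : Fin 1080 := (exists_line g b).choose

theorem lineMove_eq {g : OP} {b c : Fin 1080} (h : vec c = act g (vec b) ∨ vec c = -act g (vec b)) :
    lineMove g b = c := by
  have e := (exists_line g b).choose_spec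
  refine vec_inj ?_
  show vec (exists_line g b).choose = vec c ∨ vec (exists_line g b).choose = -vec c
  rcases h with h | h <;> rcases e with e | e <;> simp [h, e]

theorem lineMove_one (b : Fin 1080) : lineMove 1 b = b := lineMove_eq (Or.inl (mv_one _).symm)

theorem sgn_comp (g : OP) {u x w : V8} (e1 : u = x ∨ u = -x) (e2 : w = act g u ∨ w = -act g u) :
    w = act g x ∨ w = -act g x := by
  rcases e1 with rfl | rfl
  · exact e2
  · rw [show act g (-x) = -act g x from mv_neg _ _, neg_neg] at e2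
    exact e2.symm

theorem lineMove_mul (g h : OP) (b : Fin 1080) : lineMove (g * h) b = lineMove g (lineMove h b) := by
  refine lineMove_eq ?_
  rw [show act (g * h) (vec b) = act g (act h (vec b)) from mv_mul _ _ _]
  exact sgn_comp g (exists_line h b).choose_spec (exists_line g (lineMove h b)).choose_spec

/-- The action on lines. -/
noncomputable def rho : OP →* Equiv.Perm (Fin 1080) where
  toFun g := ⟨lineMove g, lineMove g⁻¹, fun b => by rw [← lineMove_mul, inv_mul_cancel, lineMove_one],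
    fun b => by rw [← lineMove_mul, mul_inv_cancel, lineMove_one]⟩
  map_one' := Equiv.ext lineMove_one
  map_mul' g h := Equiv.ext (lineMove_mul g h)

/-! ### The nine reflections -/

/-- The line of a generator. -/
def gline (i : Fin 9) : Fin 1080 := ⟨genI.getD i 0 % 1080, Nat.mod_lt _ (by norm_num)⟩

/-- The move of a generator on lines. -/
def tabF (i : Fin 9) (b : Fin 1080) : Fin 1080 :=
  ⟨Nat.land (Nat.shiftRight (tabs.getD i 0) (Nat.mul 11 b)) 2047 % 1080, Nat.mod_lt _ (by norm_num)⟩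

/-- The bilinear form. -/
def bil (x y : V8) : ZMod 3 :=
  x (.inl 0) * y (.inr 0) + x (.inr 0) * y (.inl 0) + (x (.inl 1) * y (.inr 1) + x (.inr 1) * y (.inl 1)) +
    (x (.inl 2) * y (.inr 2) + x (.inr 2) * y (.inl 2)) + (x (.inl 3) * y (.inr 3) + x (.inr 3) * y (.inl 3))

theorem pol_bil (x y : V8) : pol Qp x y = bil x y := by
  simp only [pol, QuadraticMap.polar, Qp, Cfsg.quadFormPlus, Fin.sum_univ_four, Pi.add_apply, bil]
  ring

theorem move_ok : ∀ (i : Fin 9) (b : Fin 1080),
    vec (tabF i b) = vec b - bil (vec b) (vec (gline i)) • vec (gline i) ∨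
      vec (tabF i b) = -(vec b - bil (vec b) (vec (gline i)) • vec (gline i)) := by decide +kernel

theorem hQ : Geo.IsNondegenerateQuadraticForm Qp := AutPOmega.geo_plus 4

theorem refl_exists {a : V8} (ha : Qp a = 1) : ∃ r : OP, IsRefl Qp (r : GL (Fin 4 ⊕ Fin 4) (ZMod 3)) a := by
  obtain ⟨g, hg, hr⟩ := exists_refl hQ (a := a) (by rw [ha]; exact one_ne_zero)
  exact ⟨⟨g, hg⟩, hr⟩

/-- The reflection of a line. -/
noncomputable def refl (b : Fin 1080) : OP := (refl_exists (q_vec b)).choose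

theorem refl_spec (b : Fin 1080) : IsRefl Qp (refl b : GL (Fin 4 ⊕ Fin 4) (ZMod 3)) (vec b) :=
  (refl_exists (q_vec b)).choose_spec

theorem rho_gen (i : Fin 9) (b : Fin 1080) : rho (refl (gline i)) b = tabF i b := by
  refine lineMove_eq ?_
  rw [show act (refl (gline i)) (vec b) = _ from (refl_spec (gline i)).2 (vec b), q_vec, div_one, pol_bil]
  exact move_ok i b

theorem refl_conj (g : OP) {b c : Fin 1080} (h : rho g b = c) : g * refl b * g⁻¹ = refl c := by
  refine Subtype.ext (ext_mv fun z => ?_)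
  have h1 := isRefl_conj hQ g.2 (refl_spec b)
  rw [show ((g * refl b * g⁻¹ : OP) : GL (Fin 4 ⊕ Fin 4) (ZMod 3)) =
    (g : GL _ _) * (refl b : GL _ _) * (g : GL _ _)⁻¹ from rfl, h1.2, (refl_spec c).2]
  have e : vec c = act g (vec b) ∨ vec c = -act g (vec b) := h ▸ (exists_line g b).choose_spec
  have hq : Qp (mv (g : GL _ _) (vec b)) = 1 := by rw [mem_isometry.1 g.2, q_vec]
  rw [hq, q_vec]
  rcases e with e | e
  · rw [e]
  · rw [e, pol_neg_right hQ]
    simp only [act, smul_neg, neg_div, neg_smul, neg_neg]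

end Cfsg.Agent.Fi23Plus
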