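import Cfsg.Agent.Lib.Fi23Plus.Points
import Cfsg.Agent.Lib.Fi23Plus.Orth

/-!
The even subgroup of the group of nine transpositions is the simple orthogonal group in dimension eight.
-/

set_option autoImplicit false
set_option maxRecDepth 100000

namespace Cfsg.Agent.Fi23Plus

open Cfsg.Agent.CosetCert
open Cfsg.Agent.FischerPresented
open Cfsg.Agent.Fi23Ord3
open Cfsg.Agent.FischerPresented.Out23 (tr tr_gpt gpt)
open scoped commutatorElement

/-- The subgroup generated by the products of two of the nine transpositions. -/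
noncomputable def J : Subgroup GT := Subgroup.closure {g | ∃ x, 1 ≤ x ∧ x ≤ 9 ∧ g = gg x * gg 1}

theorem pair_mem_J {x y : ℕ} (hx : 1 ≤ x) (hx9 : x ≤ 9) (hy : 1 ≤ y) (hy9 : y ≤ 9) : gg x * gg y ∈ J := by
  have e : gg x * gg y = (gg x * gg 1) * (gg y * gg 1)⁻¹ := by
    rw [mul_inv_rev, gg_inv, gg_inv, mul_assoc, ← mul_assoc (gg 1) (gg 1), gg_sq, one_mul]
  rw [e]
  exact mul_mem (Subgroup.subset_closure ⟨x, hx, hx9, rfl⟩)
    (inv_mem (Subgroup.subset_closure ⟨y, hy, hy9, rfl⟩))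

theorem J_le_W : J ≤ W := by
  rw [J, Subgroup.closure_le]
  rintro _ ⟨x, h1, h9, rfl⟩
  exact mul_mem (gg_mem_W h1 h9) (gg_mem_W le_rfl (by norm_num))

theorem gen_conj_J {x : ℕ} (hx : 1 ≤ x) (hx9 : x ≤ 9) {g : GT} (hg : g ∈ J) : gg x * g * gg x ∈ J := by
  induction hg using Subgroup.closure_induction with
  | mem v hv =>
    obtain ⟨y, hy, hy9, rfl⟩ := hv
    rw [show gg x * (gg y * gg 1) * gg x = (gg x * gg y) * (gg 1 * gg x) by simp only [mul_assoc]]
    exact mul_mem (pair_mem_J hx hx9 hy hy9) (pair_mem_J le_rfl (by norm_num) hx hx9)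
  | one => rw [mul_one, gg_sq]; exact one_mem _
  | mul a b _ _ ha hb =>
    have := mul_mem ha hb
    rwa [show gg x * a * gg x * (gg x * b * gg x) = gg x * a * (gg x * gg x) * b * gg x by simp only [mul_assoc],
      gg_sq, mul_one, mul_assoc (gg x) a b] at this
  | inv a _ ha =>
    have := inv_mem ha
    rwa [mul_inv_rev, mul_inv_rev, gg_inv, ← mul_assoc] at this

theorem W_cases {g : GT} (hg : g ∈ W) : g ∈ J ∨ g * gg 1 ∈ J := by
  induction hg using Subgroup.closure_induction_right with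
  | one => exact Or.inl (one_mem _)
  | mul_right a ha x hx ih =>
    obtain ⟨x, ⟨h1, h9⟩, rfl⟩ := hx
    rcases ih with ih | ih
    · exact Or.inr (by rw [mul_assoc]; exact mul_mem ih (pair_mem_J h1 h9 le_rfl (by norm_num)))
    · refine Or.inl ?_
      have := mul_mem ih (pair_mem_J le_rfl (by norm_num : (1 : ℕ) ≤ 9) h1 h9)
      rwa [mul_assoc, ← mul_assoc (gg 1) (gg 1), gg_sq, one_mul] at this
  | mul_inv_cancel a ha x hx ih =>
    obtain ⟨x, ⟨h1, h9⟩, rfl⟩ := hx
    rw [gg_inv]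
    rcases ih with ih | ih
    · exact Or.inr (by rw [mul_assoc]; exact mul_mem ih (pair_mem_J h1 h9 le_rfl (by norm_num)))
    · refine Or.inl ?_
      have := mul_mem ih (pair_mem_J le_rfl (by norm_num : (1 : ℕ) ≤ 9) h1 h9)
      rwa [mul_assoc, ← mul_assoc (gg 1) (gg 1), gg_sq, one_mul] at this

/-- The point of a line. -/
noncomputable def pt (b : Fin 1080) : ℕ := Nat.land (Nat.shiftRight ptsA (Nat.mul 16 (b : ℕ))) 65535

/-- The tables describe the action of the generators on the first class. -/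
noncomputable def actAt (i : ℕ) (b : ℕ) : Bool :=
  Nat.blt (Nat.land (Nat.shiftRight ptsA (Nat.mul 16 b)) 65535) 31671 &&
    (Nat.blt (Nat.land (Nat.shiftRight (tabs.getD i 0) (Nat.mul 11 b)) 2047) 1080 &&
      Nat.beq (fstep (i + 1) (Nat.land (Nat.shiftRight ptsA (Nat.mul 16 b)) 65535))
        (Nat.land (Nat.shiftRight ptsA (Nat.mul 16 (Nat.land (Nat.shiftRight (tabs.getD i 0) (Nat.mul 11 b)) 2047)))
          65535))

theorem act_ok : allBelow (fun i => allBelow (actAt i) 1080) 9 = true := by decide +kernel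

/-- The inverse of the list of points. -/
theorem pts_ok : allBelow (fun b => Nat.beq (cls (Nat.land (Nat.shiftRight ptsA (Nat.mul 16 b)) 65535)) 0) 1080 = true := by
  decide +kernel

theorem pts_nodup : ((List.range 1080).map fun b => Nat.land (Nat.shiftRight ptsA (Nat.mul 16 b)) 65535).Nodup := by
  decide +kernel

theorem gen_pts : allBelow (fun i => Nat.beq (Nat.land (Nat.shiftRight ptsA (Nat.mul 16 (genI.getD i 0 % 1080))) 65535)
    (gpt (i + 1))) 9 = true := by decide +kernel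

theorem pt_lt (b : Fin 1080) : pt b < 31671 := by
  have h := allBelow_spec (allBelow_spec act_ok (show 0 < 9 by norm_num)) b.2
  simp only [actAt, Bool.and_eq_true, Nat.blt_eq] at h
  exact h.1

theorem pt_inj {a b : Fin 1080} (h : pt a = pt b) : a = b := by
  refine Fin.ext ((List.Nodup.getElem_inj_iff pts_nodup (hi := by simpa using a.2) (hj := by simpa using b.2)).1 ?_)
  simp only [List.getElem_map, List.getElem_range]
  exact h

theorem apt_gen (i : Fin 9) (b : Fin 1080) : apt (gg ((i : ℕ) + 1)) (pt b) = pt (tabF i b) := by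
  have h := allBelow_spec (allBelow_spec act_ok i.2) b.2
  simp only [actAt, Bool.and_eq_true, Nat.blt_eq, Nat.beq_eq] at h
  rw [apt_gg (by omega) (pt_lt b)]
  refine h.2.2.trans ?_
  simp only [pt, tabF, Nat.mod_eq_of_lt h.2.1]

theorem gg_gen {x : ℕ} (h1 : 1 ≤ x) (h9 : x ≤ 9) : gg x = gg (((⟨x - 1, by omega⟩ : Fin 9) : ℕ) + 1) := by
  congr 1
  simp only; omega

theorem W_stable {g : GT} (hg : g ∈ W) : ∀ b : Fin 1080, ∃ c : Fin 1080, apt g (pt b) = pt c := by
  induction hg using Subgroup.closure_induction'' with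
  | mem g hg => obtain ⟨x, ⟨h1, h9⟩, rfl⟩ := hg; exact fun b => ⟨_, gg_gen h1 h9 ▸ apt_gen ⟨x - 1, by omega⟩ b⟩
  | inv_mem g hg =>
    obtain ⟨x, ⟨h1, h9⟩, rfl⟩ := hg
    rw [gg_inv]
    exact fun b => ⟨_, gg_gen h1 h9 ▸ apt_gen ⟨x - 1, by omega⟩ b⟩
  | one => exact fun b => ⟨b, apt_one _⟩
  | mul a c _ _ ha hc =>
    intro b
    obtain ⟨b', h⟩ := hc b
    obtain ⟨b'', h'⟩ := ha b'
    exact ⟨b'', by rw [apt_mul, h, h']⟩

/-- The image of a line under an element. -/
noncomputable def moveW (g : W) (b : Fin 1080) : Fin 1080 := (W_stable g.2 b).choose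

theorem pt_moveW (g : W) (b : Fin 1080) : pt (moveW g b) = apt g (pt b) := (W_stable g.2 b).choose_spec.symm

theorem moveW_mul (g h : W) (b : Fin 1080) : moveW (g * h) b = moveW g (moveW h b) :=
  pt_inj (by rw [pt_moveW, pt_moveW, pt_moveW, Subgroup.coe_mul, apt_mul])

theorem moveW_one (b : Fin 1080) : moveW 1 b = b := pt_inj (by rw [pt_moveW, Subgroup.coe_one, apt_one])

/-- The permutation representation. -/
noncomputable def piW : ↥W →* Equiv.Perm (Fin 1080) where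
  toFun g := ⟨moveW g, moveW g⁻¹, fun b => by rw [← moveW_mul, inv_mul_cancel, moveW_one],
    fun b => by rw [← moveW_mul, mul_inv_cancel, moveW_one]⟩
  map_one' := Equiv.ext moveW_one
  map_mul' g h := Equiv.ext (moveW_mul g h)

theorem commute_of_fix {g : GT} {x : ℕ} (hx : x < 10) (h : apt g (gpt x) = gpt x) : Commute g (gg x) := by
  obtain ⟨hlt, ht⟩ := tr_gpt hx
  rw [gg_eq, ← ht]
  exact (apt_fix_iff g hlt).1 h

theorem pt_gline (i : Fin 9) : pt (gline i) = gpt ((i : ℕ) + 1) :=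
  Nat.eq_of_beq_eq_true (allBelow_spec gen_pts i.2)

theorem piW_inj : Function.Injective piW := by
  refine (injective_iff_map_eq_one piW).2 fun g hg => Subtype.ext (eq_one_of_commute fun x h1 h9 => ?_)
  refine commute_of_fix (by omega) ?_
  obtain ⟨b, hb⟩ : ∃ b, gpt x = pt b := ⟨gline ⟨x - 1, by omega⟩, by
    rw [pt_gline]
    exact congrArg gpt (by simp only; omega)⟩
  rw [hb]
  exact (pt_moveW g b).symm.trans (congrArg pt (DFunLike.congr_fun hg b))

/-- A generator as a member. -/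
noncomputable def wgen (i : Fin 9) : ↥W := ⟨gg ((i : ℕ) + 1), gg_mem_W (by omega) (by omega)⟩

theorem piW_gen (i : Fin 9) : piW (wgen i) = rho (refl (gline i)) :=
  Equiv.ext fun b => pt_inj ((pt_moveW (wgen i) b).trans ((apt_gen i b).trans (congrArg pt (rho_gen i b).symm)))

theorem exists_rho (g : ↥W) : ∃ h : OP, rho h = piW g := by
  obtain ⟨g, hg⟩ := g
  have key : ∀ g, ∀ hg : g ∈ W, ∃ h : OP, rho h = piW ⟨g, hg⟩ := by
    intro g hg
    induction hg using Subgroup.closure_induction with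
    | mem v hv =>
      obtain ⟨x, ⟨h1, h9⟩, rfl⟩ := hv
      refine ⟨refl (gline ⟨x - 1, by omega⟩), ?_⟩
      rw [← piW_gen]
      exact congrArg piW (Subtype.ext (gg_gen h1 h9).symm)
    | one => exact ⟨1, by rw [map_one]; exact (map_one piW).symm⟩
    | mul a b ha hb iha ihb =>
      obtain ⟨u, hu⟩ := iha
      obtain ⟨v, hv⟩ := ihb
      exact ⟨u * v, by rw [map_mul, hu, hv, ← map_mul]; rfl⟩
    | inv a ha iha =>
      obtain ⟨u, hu⟩ := iha
      exact ⟨u⁻¹, by rw [map_inv, hu, ← map_inv]; rfl⟩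
  exact key g hg

theorem W_trans (b : Fin 1080) : ∃ g : ↥W, piW g (gline 0) = b := by
  have hA : ∀ c : Fin 1080, ∃ g ∈ W, apt g 0 = pt c := fun c => by
    have hc := Nat.eq_of_beq_eq_true (allBelow_spec pts_ok c.2)
    change cls (pt c) = 0 at hc
    obtain ⟨g, hg, e⟩ := exists_W (pt_lt c) (by omega) (by omega)
    exact ⟨g, hg, by rw [hc] at e; exact e⟩
  obtain ⟨g, hg, e⟩ := hA b
  obtain ⟨g0, hg0, e0⟩ := hA (gline 0)
  refine ⟨⟨g * g0⁻¹, mul_mem hg (inv_mem hg0)⟩, pt_inj ((pt_moveW _ _).trans ?_)⟩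
  rw [← e0, apt_mul, ← apt_mul g0⁻¹, inv_mul_cancel, apt_one, e]

/-- The omega group. -/
noncomputable abbrev OM : Subgroup OP := Cfsg.Omega (ZMod 3) Qp

/-- The products of two reflections. -/
noncomputable def P : Subgroup OP := Subgroup.closure {g | ∃ b c, g = refl b * refl c}

theorem refl_conj_gen (b : Fin 1080) : ∃ (w : ↥W) (h : OP), rho h = piW w ∧ h * refl (gline 0) * h⁻¹ = refl b := by
  obtain ⟨w, hw⟩ := W_trans b
  obtain ⟨h, hh⟩ := exists_rho w
  exact ⟨w, h, hh, refl_conj h (hh ▸ hw)⟩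

theorem refl_sq (b : Fin 1080) : refl b * refl b = 1 :=
  Subtype.ext (Cfsg.Agent.Transvec.Orth.isRefl_sq hQ (refl_spec b))

theorem P_le : P ≤ OM := by
  rw [P, Subgroup.closure_le]
  rintro _ ⟨b, c, rfl⟩
  obtain ⟨-, h, -, hb⟩ := refl_conj_gen b
  obtain ⟨-, h', -, hc⟩ := refl_conj_gen c
  have e : ∀ u : OP, u * refl (gline 0) * u⁻¹ * refl (gline 0) ∈ OM := fun u => by
    have hc : u * refl (gline 0) * u⁻¹ * (refl (gline 0))⁻¹ ∈ OM :=
      Subgroup.commutator_mem_commutator (Subgroup.mem_top u) (Subgroup.mem_top (refl (gline 0)))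
    rwa [inv_eq_of_mul_eq_one_right (refl_sq _)] at hc
  have hx := mul_mem (e h) (inv_mem (e h'))
  rw [mul_inv_rev, hb, hc, inv_eq_of_mul_eq_one_right (refl_sq _), inv_eq_of_mul_eq_one_right (refl_sq _),
    mul_assoc, ← mul_assoc (refl (gline 0)) (refl (gline 0)), refl_sq, one_mul] at hx
  exact hx

theorem P_normal : P.Normal := by
  refine ⟨fun n hn g => ?_⟩
  induction hn using Subgroup.closure_induction with
  | mem v hv =>
    obtain ⟨b, c, rfl⟩ := hv
    refine Subgroup.subset_closure ⟨rho g b, rho g c, ?_⟩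
    rw [← refl_conj g (rfl : rho g b = _), ← refl_conj g (rfl : rho g c = _)]
    group
  | one => rw [mul_one, mul_inv_cancel]; exact one_mem _
  | mul a b _ _ ha hb =>
    have := mul_mem ha hb
    rwa [show g * a * g⁻¹ * (g * b * g⁻¹) = g * (a * b) * g⁻¹ by group] at this
  | inv a _ ha =>
    have := inv_mem ha
    rwa [show (g * a * g⁻¹)⁻¹ = g * a⁻¹ * g⁻¹ by group] at this

theorem J_to_P {g : GT} (hg : g ∈ J) : ∃ h ∈ P, rho h = piW ⟨g, J_le_W hg⟩ := by
  have key : ∀ g, ∀ hg : g ∈ J, ∃ h ∈ P, rho h = piW ⟨g, J_le_W hg⟩ := by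
    intro g hg
    induction hg using Subgroup.closure_induction with
    | mem v hv =>
      obtain ⟨x, h1, h9, rfl⟩ := hv
      refine ⟨refl (gline ⟨x - 1, by omega⟩) * refl (gline 0), Subgroup.subset_closure ⟨_, _, rfl⟩, ?_⟩
      rw [map_mul, ← piW_gen, ← piW_gen, ← map_mul]
      refine congrArg piW (Subtype.ext ?_)
      show gg _ * gg _ = _
      rw [← gg_gen h1 h9]
      rfl
    | one => exact ⟨1, one_mem _, by rw [map_one]; exact (map_one piW).symm⟩
    | mul a b ha hb iha ihb =>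
      obtain ⟨u, hu, eu⟩ := iha
      obtain ⟨v, hv, ev⟩ := ihb
      exact ⟨u * v, mul_mem hu hv, by rw [map_mul, eu, ev, ← map_mul]; rfl⟩
    | inv a ha iha =>
      obtain ⟨u, hu, eu⟩ := iha
      exact ⟨u⁻¹, inv_mem hu, by rw [map_inv, eu, ← map_inv]; rfl⟩
  exact key g hg

theorem comm_mem_J {w : GT} (hw : w ∈ W) : w * gg 1 * w⁻¹ * gg 1 ∈ J := by
  rcases W_cases hw with hj | hj
  · rw [show w * gg 1 * w⁻¹ * gg 1 = w * (gg 1 * w⁻¹ * gg 1) by simp only [mul_assoc]]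
    exact mul_mem hj (gen_conj_J le_rfl (by norm_num) (inv_mem hj))
  · have h2 := mul_mem hj (gen_conj_J le_rfl (by norm_num : (1 : ℕ) ≤ 9) (inv_mem hj))
    rw [mul_inv_rev, gg_inv, ← mul_assoc (gg 1) (gg 1), gg_sq, one_mul] at h2
    simpa [mul_assoc] using h2

theorem P_to_J {h : OP} (hh : h ∈ P) : ∃ g, ∃ hg : g ∈ J, rho h = piW ⟨g, J_le_W hg⟩ := by
  induction hh using Subgroup.closure_induction with
  | mem v hv =>
    obtain ⟨b, c, rfl⟩ := hv
    obtain ⟨w, u, hu, hb⟩ := refl_conj_gen b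
    obtain ⟨w', u', hu', hc⟩ := refl_conj_gen c
    have hj : (w : GT) * gg 1 * (w : GT)⁻¹ * ((w' : GT) * gg 1 * (w' : GT)⁻¹) ∈ J := by
      have := mul_mem (comm_mem_J w.2) (inv_mem (comm_mem_J w'.2))
      rw [mul_inv_rev, gg_inv, mul_inv_rev, mul_inv_rev, inv_inv, gg_inv, mul_assoc, ← mul_assoc (gg 1) (gg 1),
        gg_sq, one_mul] at this
      simpa [mul_assoc] using this
    refine ⟨_, hj, ?_⟩
    rw [← hb, ← hc, map_mul, map_mul, map_mul, map_mul, map_mul, map_inv, map_inv, hu, hu',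
      ← piW_gen, ← map_inv, ← map_inv, ← map_mul, ← map_mul, ← map_mul, ← map_mul, ← map_mul]
    exact congrArg piW (Subtype.ext rfl)
  | one => exact ⟨1, one_mem _, by rw [map_one]; exact (map_one piW).symm⟩
  | mul a b _ _ iha ihb =>
    obtain ⟨u, hu, eu⟩ := iha
    obtain ⟨v, hv, ev⟩ := ihb
    exact ⟨u * v, mul_mem hu hv, by rw [map_mul, eu, ev, ← map_mul]; rfl⟩
  | inv a _ iha =>
    obtain ⟨u, hu, eu⟩ := iha
    exact ⟨u⁻¹, inv_mem hu, by rw [map_inv, eu, ← map_inv]; rfl⟩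

theorem pomega_simple : IsSimpleGroup (Cfsg.POmega (ZMod 3) Qp) := by
  have h := Cfsg.Agent.Orth.pomega_congr (Cfsg.Agent.Orth.qPlus_nondeg (F := ZMod 3) 4)
    (show 7 ≤ Fintype.card (Fin 4 ⊕ Fin 4) by simp)
  rwa [Cfsg.Agent.Orth.coe_qPlus] at h

theorem center_fixes {g : ↥OM} (hg : g ∈ Subgroup.center ↥OM) : rho (g : OP) = 1 := by
  have hiff : ∀ (q : QuadraticForm (ZMod 3) V8), (QuadraticMap.polarBilin q).Nondegenerate →
      ∀ g : ↥(Cfsg.Omega (ZMod 3) (⇑q)), g ∈ Subgroup.center ↥(Cfsg.Omega (ZMod 3) (⇑q)) →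
        ∃ a : ZMod 3, a * a = 1 ∧ ((g.1 : GL (Fin 4 ⊕ Fin 4) (ZMod 3)) : Matrix (Fin 4 ⊕ Fin 4) (Fin 4 ⊕ Fin 4) (ZMod 3)) = a • (1 : Matrix (Fin 4 ⊕ Fin 4) (Fin 4 ⊕ Fin 4) (ZMod 3)) :=
    fun q hq g hg => (Cfsg.Agent.Orth.center_omega_iff hq (by simp) g).1 hg
  have key := hiff (Cfsg.Agent.Orth.qPlus (ZMod 3) 4) (Cfsg.Agent.Orth.qPlus_nondeg 4)
  rw [Cfsg.Agent.Orth.coe_qPlus] at key
  obtain ⟨a, ha, hm⟩ := key g hg
  refine Equiv.ext fun b => lineMove_eq ?_
  show vec b = act (g : OP) (vec b) ∨ vec b = -act (g : OP) (vec b)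
  have e : act (g : OP) (vec b) = a • vec b := by
    show Matrix.mulVec _ _ = _
    rw [hm, Matrix.smul_mulVec, Matrix.one_mulVec]
  rcases mul_self_eq_one_iff.1 ha with rfl | rfl
  · exact Or.inl (by rw [e, one_smul])
  · exact Or.inr (by rw [e, neg_one_smul, neg_neg])

theorem move_one_two : tabF 1 (tabF 0 (gline 1)) ≠ gline 1 := by decide +kernel

/-- The even subgroup is the simple orthogonal group. -/
theorem exists_J_iso : Nonempty (↥J ≃* Cfsg.POmega (ZMod 3) Qp) := by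
  haveI := pomega_simple
  obtain ⟨f, hfdef⟩ : ∃ f : ↥OM →* Equiv.Perm (Fin 1080), f = rho.comp OM.subtype := ⟨_, rfl⟩
  have hZ : Subgroup.center ↥OM ≤ f.ker := fun g hg => by
    rw [MonoidHom.mem_ker, hfdef]; exact center_fixes hg
  obtain ⟨fb, hfb⟩ : ∃ fb : Cfsg.POmega (ZMod 3) Qp →* Equiv.Perm (Fin 1080),
      fb = QuotientGroup.lift (Subgroup.center ↥OM) f hZ := ⟨_, rfl⟩
  have hne : ∃ h ∈ P, rho h ≠ 1 := by
    refine ⟨refl (gline 1) * refl (gline 0), Subgroup.subset_closure ⟨_, _, rfl⟩, fun e => move_one_two ?_⟩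
    have := DFunLike.congr_fun e (gline 1)
    rwa [map_mul, Equiv.Perm.mul_apply, rho_gen, rho_gen, Equiv.Perm.one_apply] at this
  obtain ⟨h0, hh0, hne0⟩ := hne
  haveI : (P.subgroupOf OM).Normal := ⟨fun n hn g => P_normal.conj_mem _ hn _⟩
  haveI hN : ((P.subgroupOf OM).map (QuotientGroup.mk' (Subgroup.center ↥OM))).Normal :=
    Subgroup.Normal.map inferInstance _ (QuotientGroup.mk'_surjective _)
  have htop : (P.subgroupOf OM).map (QuotientGroup.mk' (Subgroup.center ↥OM)) = ⊤ := by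
    refine hN.eq_bot_or_eq_top.resolve_left fun hb => hne0 ?_
    have hm : QuotientGroup.mk' (Subgroup.center ↥OM) ⟨h0, P_le hh0⟩ ∈
        (P.subgroupOf OM).map (QuotientGroup.mk' (Subgroup.center ↥OM)) := ⟨⟨h0, P_le hh0⟩, hh0, rfl⟩
    rw [hb, Subgroup.mem_bot, QuotientGroup.mk'_apply, QuotientGroup.eq_one_iff] at hm
    exact center_fixes hm
  have hinj : Function.Injective fb := by
    rw [← MonoidHom.ker_eq_bot_iff]
    refine (show fb.ker.Normal from inferInstance).eq_bot_or_eq_top.resolve_right fun ht => hne0 ?_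
    have : fb (QuotientGroup.mk' (Subgroup.center ↥OM) ⟨h0, P_le hh0⟩) = 1 :=
      MonoidHom.mem_ker.1 (ht ▸ Subgroup.mem_top _)
    rw [hfb, QuotientGroup.mk'_apply, QuotientGroup.lift_mk, hfdef] at this
    exact this
  obtain ⟨k, hkdef⟩ : ∃ k : ↥J →* Equiv.Perm (Fin 1080), k = piW.comp (Subgroup.inclusion J_le_W) := ⟨_, rfl⟩
  have hk : Function.Injective k := by rw [hkdef]; exact piW_inj.comp (Subgroup.inclusion_injective _)
  have hrange : k.range = fb.range := by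
    ext σ
    constructor
    · rintro ⟨⟨g, hg⟩, rfl⟩
      obtain ⟨h, hh, e⟩ := J_to_P hg
      exact ⟨QuotientGroup.mk' _ ⟨h, P_le hh⟩, by rw [hfb, hkdef, QuotientGroup.mk'_apply, QuotientGroup.lift_mk, hfdef]; exact e⟩
    · rintro ⟨q, rfl⟩
      obtain ⟨⟨h, hh⟩, hP, rfl⟩ := htop ▸ Subgroup.mem_top q
      obtain ⟨g, hg, e⟩ := P_to_J (h := h) hP
      exact ⟨⟨g, hg⟩, by rw [hfb, hkdef, QuotientGroup.mk'_apply, QuotientGroup.lift_mk, hfdef]; exact e.symm⟩
  exact ⟨(MonoidHom.ofInjective hk).trans ((MulEquiv.subgroupCongr hrange).trans (MonoidHom.ofInjective hinj).symm)⟩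

end Cfsg.Agent.Fi23Plus
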