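import Cfsg.Agent.Lib.Components.FStar

/-!
A normal simple subgroup with trivial centraliser is the generalised Fitting subgroup.
-/

set_option autoImplicit false

namespace Cfsg.Agent.Fi23Plus

open Cfsg.Agent

/-- A normal simple subgroup with trivial centraliser is the generalised Fitting subgroup. -/
theorem fstar_eq_of_simple {L : Type*} [Group L] [Finite L] {N : Subgroup L} [hN : N.Normal]
    (hs : IsSimpleGroup N) (hnc : ∃ x y : N, ¬ Commute x y) (hC : Subgroup.centralizer (N : Set L) = ⊥) :
    Cfsg.generalizedFittingSubgroup L = N := by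
  haveI := hs
  have hcen : Subgroup.center N = ⊥ :=
    (Subgroup.Normal.eq_bot_or_eq_top inferInstance).resolve_right fun h => by
      obtain ⟨x, y, hxy⟩ := hnc
      exact hxy ((Subgroup.mem_center_iff.1 (h ▸ Subgroup.mem_top x) y).symm)
  have hq : Cfsg.IsQuasisimple N := by
    refine ⟨⟨?_⟩, ?_⟩
    · refine (Subgroup.commutator_normal (⊤ : Subgroup N) ⊤).eq_bot_or_eq_top.resolve_left fun h => ?_
      obtain ⟨x, y, hxy⟩ := hnc
      refine hxy (commutatorElement_eq_one_iff_commute.1 ?_)
      rw [← Subgroup.mem_bot, ← h]
      exact Subgroup.commutator_mem_commutator (Subgroup.mem_top _) (Subgroup.mem_top _)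
    · exact ((QuotientGroup.quotientMulEquivOfEq hcen).trans QuotientGroup.quotientBot).isSimpleGroup_congr.2 hs
  have hcomp : Cfsg.IsComponent N := ⟨hN.isSubnormal, hq⟩
  refine le_antisymm (sup_le ?_ ?_) ((Components.component_le_layer hcomp).trans le_sup_left)
  · refine Components.layer_le_iff.2 fun M hM => ?_
    by_cases e : M = N
    · exact e.le
    · have hc : M ≤ Subgroup.centralizer (N : Set L) :=
        Subgroup.commutator_eq_bot_iff_le_centralizer.1 (Components.components_commute hM hcomp e)
      rw [hC, le_bot_iff] at hc
      exact absurd hc (Components.component_ne_bot hM)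
  · refine sSup_le ?_
    rintro R ⟨hR, hnil⟩
    haveI := hR
    haveI := hnil
    have hRN : R ⊓ N = ⊥ := by
      have hn : ((R ⊓ N).subgroupOf N).Normal := inferInstance
      rcases hn.eq_bot_or_eq_top with h | h
      · rwa [Subgroup.subgroupOf_eq_bot, disjoint_iff, inf_assoc, inf_idem] at h
      · exfalso
        rw [Subgroup.subgroupOf_eq_top, le_inf_iff] at h
        haveI : Group.IsSolvable R := inferInstance
        haveI := Group.isSolvable_of_isSolvable_injective (Subgroup.inclusion_injective h.1)
        haveI : Nontrivial N := hs.toNontrivial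
        exact (Group.IsSolvable.commutator_lt_top_of_nontrivial N).ne hq.1.commutator_eq_top
    have hc : R ≤ Subgroup.centralizer (N : Set L) :=
      Subgroup.commutator_eq_bot_iff_le_centralizer.1
        (le_bot_iff.1 ((Subgroup.commutator_le_inf R N).trans hRN.le))
    rw [hC, le_bot_iff] at hc
    rw [hc]
    exact bot_le
end Cfsg.Agent.Fi23Plus
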