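import Cfsg.Agent.Lib.Fi23Plus.Triple
import Cfsg.Agent.Lib.Fi23Plus.FStar
import Cfsg.Agent.Lib.FischerPresented.O73Group

/-!
The centraliser of a transposition in the group of three classes, and transport to groups of type M(23).
-/

set_option autoImplicit false
set_option maxRecDepth 100000

namespace Cfsg.Agent.Fi23Plus

open Cfsg.Agent.CosetCert
open Cfsg.Agent.CosetData
open Cfsg.Agent.FischerPresented
open Cfsg.Agent.Fi23Ord3
open Cfsg.Agent.FischerPresented.Out23 (tr tr_mem tr_hom exists_tr tr_gpt gpt tr_injective tr_zero)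

/-- A generator fixing the first point, times the first transposition. -/
noncomputable def kk (x : ℕ) : GT := Fi23.z * Setup.gen Fi23A.setup (x % 8 + 1)

/-- A word for `kk`. -/
def kW (x : ℕ) : List ℕ := Fi23.zW ++ [x % 8 + 1]

/-- The complement of the first transposition in its centraliser. -/
noncomputable def K2 : Subgroup GT := Subgroup.closure (kk '' {x | x < 8})

theorem kW_rels : (ChainO73.base.all fun w => wordFixPts Fi23A.P 31671 Fi23.pts (w.flatMap kW)) = true := by
  decide +kernel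

theorem kk_invol (x : ℕ) : kk x * kk x = 1 := by
  have h : Commute (Setup.gen Fi23A.setup (x % 8 + 1)) Fi23.z := (Fi23.z_comm _ (by omega)).symm
  rw [kk, mul_assoc, ← mul_assoc _ Fi23.z, h.eq, mul_assoc, Setup.gen_invol Fi23A.setup, mul_one, Fi23.z_sq]

theorem wprod_kk : ∀ w : List ℕ, wprod kk w = wprod (Setup.gen Fi23A.setup) (w.flatMap kW)
  | [] => rfl
  | x :: w => by
    rw [List.flatMap_cons, wprod_append, wprod_cons, wprod_kk w, kW, wprod_append, kk, Fi23.z]
    simp [wprod]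

theorem K2_iso : Nat.card K2 = 4585351680 ∧
    Nonempty (K2 ≃* Cfsg.POmega (ZMod 3) (Cfsg.quadFormOdd 3 (ZMod 3))) := by
  obtain ⟨ψ, hψ⟩ := O73.setup.exists_hom kk kk_invol (fun w hw => by
    rw [wprod_kk]
    exact Fi23.word_one (List.all_eq_true.1 kW_rels w hw))
  have hr : ψ.range = K2 := by
    rw [MonoidHom.range_eq_map, ← O73.setup.closure_gen, MonoidHom.map_closure, ← Set.image_comp, K2]
    exact congrArg Subgroup.closure (Set.image_congr fun x hx => hψ x hx)
  have hfin := O73.order_facts.1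
  obtain ⟨ι⟩ := O73.nonempty_iso
  have hsimp : IsSimpleGroup O73.setup.G := by
    have h := Cfsg.Agent.Orth.pomega_congr (Cfsg.Agent.Orth.qOdd_nondeg (F := ZMod 3) (by decide) 3)
      (show 7 ≤ Fintype.card (Unit ⊕ (Fin 3 ⊕ Fin 3)) by simp)
    rw [Cfsg.Agent.Orth.coe_qOdd] at h
    exact ι.isSimpleGroup_congr.2 h
  have hinj : Function.Injective ψ := by
    rw [← MonoidHom.ker_eq_bot_iff]
    refine (Subgroup.Normal.eq_bot_or_eq_top inferInstance).resolve_right fun h => ?_
    have h1 : ψ (O73.setup.gen 0) = 1 := MonoidHom.mem_ker.1 (h ▸ Subgroup.mem_top _)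
    rw [hψ 0 (show (0 : ℕ) < 8 by norm_num)] at h1
    obtain ⟨hlt, ht⟩ := tr_gpt (show 1 < 10 by norm_num)
    have h0 : Fi23.z = Setup.gen Fi23A.setup 1 :=
      (mul_eq_one_iff_eq_inv.1 h1).trans (inv_eq_of_mul_eq_one_right (Setup.gen_invol Fi23A.setup 1))
    rw [← tr_zero, ← ht] at h0
    have hz : (0 : ℕ) = gpt 1 := congrArg Fin.val (tr_injective h0)
    exact absurd hz (by decide +kernel)
  obtain ⟨e⟩ : Nonempty (O73.setup.G ≃* K2) :=
    ⟨(MonoidHom.ofInjective hinj).trans (MulEquiv.subgroupCongr hr)⟩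
  exact ⟨by rw [← Nat.card_congr e.toEquiv, O73.order_facts.2.1], ⟨e.symm.trans ι⟩⟩

theorem z_mem_II : Fi23.z ∈ II := by
  obtain ⟨hlt, ht⟩ := tr_gpt (show 1 < 10 by norm_num)
  have hc : cls (gpt 1) = 0 := Nat.eq_of_beq_eq_true (allBelow_spec gpt_cls (show 0 < 9 by norm_num))
  obtain ⟨g, hg, e⟩ := exists_carry hlt (by rw [hc]; norm_num)
  have h : g * tr (0 : Fin 31671) * g⁻¹ = gg 1 := by
    rw [← tr_hom, gg_eq, ← ht]
    exact congrArg tr (Fin.ext ((apt_of_lt g (show 0 < 31671 by norm_num)).symm.trans e))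
  rw [tr_zero] at h
  have := mul_mem (mul_mem (inv_mem hg) (gg_mem le_rfl (show (1 : ℕ) ≤ 9 by norm_num))) hg
  rw [← h] at this
  simpa [mul_assoc] using this

theorem zero_fix {g : GT} : apt g 0 = 0 ↔ Commute g Fi23.z := by
  rw [← tr_zero]
  exact apt_fix_iff g (show 0 < 31671 by norm_num)

/-- The centraliser of the first transposition inside is a direct product. -/
theorem stab_iso : Nonempty (↥(II ⊓ Subgroup.centralizer ({Fi23.z} : Set GT)) ≃*
    Multiplicative (ZMod 2) × Cfsg.POmega (ZMod 3) (Cfsg.quadFormOdd 3 (ZMod 3))) := by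
  classical
  haveI := Fi23.order_facts.1
  obtain ⟨hK, ⟨eK⟩⟩ := K2_iso
  set S := II ⊓ Subgroup.centralizer ({Fi23.z} : Set GT) with hS
  have hKS : K2 ≤ S := by
    rw [K2, Subgroup.closure_le]
    rintro _ ⟨x, hx, rfl⟩
    have hx' : x < 8 := hx
    refine ⟨mul_mem z_mem_II ?_, Subgroup.mem_centralizer_singleton_iff.2 ?_⟩
    · rw [← gg_eq]
      exact gg_mem (show 1 ≤ x % 8 + 1 by omega) (by omega)
    · exact ((Commute.refl Fi23.z).mul_right (Fi23.z_comm (x % 8 + 1) (by omega))).eq.symm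
  have hzS : Fi23.z ∈ S := ⟨z_mem_II, Subgroup.mem_centralizer_singleton_iff.2 rfl⟩
  have hcard : Nat.card S ≤ 2 * 4585351680 := by
    let f : ↥II →* Equiv.Perm (Fin 31671) := Out23.hm.comp II.subtype
    letI : MulAction ↥II (Fin 31671) := MulAction.compHom _ f
    have horb : 3240 ≤ Nat.card (MulAction.orbit ↥II (0 : Fin 31671)) := by
      rw [← count_ok, Out23.countBelow_eq, Nat.card_coe_set_eq]
      refine Set.ncard_le_ncard (fun p hp => ?_) (Set.toFinite _)
      obtain ⟨g, hg, e⟩ := exists_carry p.2 (Nat.blt_eq.mp hp)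
      exact ⟨⟨g, hg⟩, Fin.ext ((apt_of_lt g (show 0 < 31671 by norm_num)).symm.trans e)⟩
    have hst : MulAction.stabilizer ↥II (0 : Fin 31671) = S.subgroupOf II := by
      ext g
      rw [MulAction.mem_stabilizer_iff, Subgroup.mem_subgroupOf, hS, Subgroup.mem_inf,
        Subgroup.mem_centralizer_singleton_iff]
      constructor
      · intro h
        exact ⟨g.2, (zero_fix.1 ((apt_of_lt (g : GT) (show 0 < 31671 by norm_num)).trans (congrArg Fin.val h))).eq⟩
      · intro h
        exact Fin.ext ((apt_of_lt (g : GT) (show 0 < 31671 by norm_num)).symm.trans (zero_fix.2 h.2))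
    have h := Subgroup.card_mul_index (MulAction.stabilizer ↥II (0 : Fin 31671))
    rw [MulAction.index_stabilizer, hst, Nat.card_congr (Subgroup.subgroupOfEquivOfLe inf_le_left).toEquiv,
      card_II, ← Nat.card_coe_set_eq] at h
    rw [← hS] at h
    by_contra hlt
    push Not at hlt
    have := Nat.mul_le_mul hlt horb
    omega
  have hzk : ∀ k ∈ K2, Commute Fi23.z k := fun k hk =>
    (Subgroup.mem_centralizer_singleton_iff.1 (hKS hk).2).symm
  have hznot : Fi23.z ∉ K2 := by
    intro hz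
    haveI : IsSimpleGroup (Cfsg.POmega (ZMod 3) (Cfsg.quadFormOdd 3 (ZMod 3))) := by
      have h := Cfsg.Agent.Orth.pomega_congr (Cfsg.Agent.Orth.qOdd_nondeg (F := ZMod 3) (by decide) 3)
        (show 7 ≤ Fintype.card (Unit ⊕ (Fin 3 ⊕ Fin 3)) by simp)
      rwa [Cfsg.Agent.Orth.coe_qOdd] at h
    haveI : IsSimpleGroup K2 := eK.isSimpleGroup_congr.2 inferInstance
    have hc : (⟨Fi23.z, hz⟩ : K2) ∈ Subgroup.center K2 :=
      Subgroup.mem_center_iff.2 fun k => Subtype.ext (hzk k k.2).eq.symm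
    rcases (show (Subgroup.center K2).Normal from inferInstance).eq_bot_or_eq_top with h | h
    · rw [h, Subgroup.mem_bot] at hc
      exact Fi23.z_ne_one (congrArg Subtype.val hc)
    · have hcm : ∀ a b : K2, a * b = b * a := fun a b => (Subgroup.mem_center_iff.1 (h ▸ Subgroup.mem_top a) b).symm
      have hs : Subgroup.zpowers (⟨Fi23.z, hz⟩ : K2) = ⊤ :=
        ((show (Subgroup.zpowers (⟨Fi23.z, hz⟩ : K2)).Normal from
          ⟨fun n hn g => by rwa [hcm g n, mul_inv_cancel_right]⟩).eq_bot_or_eq_top).resolve_left fun e =>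
            Fi23.z_ne_one (congrArg Subtype.val (Subgroup.zpowers_eq_bot.1 e))
      have h2 : Nat.card K2 = 2 := by
        rw [← Subgroup.card_top, ← hs, Nat.card_zpowers]
        exact orderOf_eq_prime (Subtype.ext (by show Fi23.z ^ 2 = 1; rw [pow_two, Fi23.z_sq]))
          (fun e => Fi23.z_ne_one (congrArg Subtype.val e))
      omega
  have hz2 : (⟨Fi23.z, hzS⟩ : ↥S) ^ 2 = 1 := Subtype.ext (by show Fi23.z ^ 2 = 1; rw [pow_two, Fi23.z_sq])
  obtain ⟨f, hf⟩ : ∃ f : Multiplicative (ZMod 2) →* ↥S,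
      (f (Multiplicative.ofAdd 1) : GT) = Fi23.z := by
    refine ⟨MonoidHom.mk' (fun a => ⟨Fi23.z, hzS⟩ ^ (Multiplicative.toAdd a).val) fun a b => ?_, ?_⟩
    · rw [toAdd_mul, ZMod.val_add, ← pow_mod_orderOf, ← pow_add,
        ← pow_mod_orderOf _ (_ + _), Nat.mod_mod_of_dvd _ (orderOf_dvd_of_pow_eq_one hz2)]
    · show ((⟨Fi23.z, hzS⟩ : ↥S) ^ (1 : ZMod 2).val : ↥S).1 = _
      rw [ZMod.val_one, pow_one]
  have hfa : ∀ a, f a = 1 ∧ a = 1 ∨ (f a : GT) = Fi23.z ∧ a = Multiplicative.ofAdd 1 := by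
    intro a
    rcases (by decide : ∀ a : Multiplicative (ZMod 2), a = 1 ∨ a = Multiplicative.ofAdd 1) a with rfl | rfl
    · exact Or.inl ⟨map_one f, rfl⟩
    · exact Or.inr ⟨hf, rfl⟩
  let F : Multiplicative (ZMod 2) × ↥K2 →* ↥S := MonoidHom.noncommCoprod f (Subgroup.inclusion hKS) fun a k =>
    Subtype.ext (by
      show (f a : GT) * (k : GT) = (k : GT) * (f a : GT)
      rcases hfa a with ⟨e, -⟩ | ⟨e, -⟩
      · rw [e]; simp
      · rw [e]; exact (hzk k k.2).eq)
  have hFi : Function.Injective F := by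
    refine (injective_iff_map_eq_one F).2 fun x hx => ?_
    obtain ⟨a, k⟩ := x
    have h : (f a : GT) * (k : GT) = 1 := congrArg Subtype.val hx
    rcases hfa a with ⟨e, rfl⟩ | ⟨e, -⟩
    · rw [e] at h
      exact Prod.ext rfl (Subtype.ext (by simpa using h))
    · exfalso
      rw [e, mul_eq_one_iff_eq_inv] at h
      exact hznot (h ▸ inv_mem k.2)
  have hb : Function.Bijective F := by
    refine (Nat.bijective_iff_injective_and_card _).2 ⟨hFi, ?_⟩
    have := Nat.card_le_card_of_injective _ hFi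
    rw [Nat.card_prod, hK, Nat.card_congr Multiplicative.toAdd, Nat.card_zmod] at this ⊢
    omega
  exact ⟨(MulEquiv.ofBijective F hb).symm.trans (MulEquiv.prodCongr (MulEquiv.refl _) eK)⟩

theorem J_normal : (J.subgroupOf II).Normal := psi_ker ▸ inferInstance

/-- The generalised Fitting subgroup is the even subgroup. -/
theorem fstar_II : Cfsg.generalizedFittingSubgroup ↥II = J.subgroupOf II := by
  haveI := Fi23.order_facts.1
  haveI := J_normal
  obtain ⟨e⟩ := exists_J_iso
  let eN : ↥(J.subgroupOf II) ≃* Cfsg.POmega (ZMod 3) Qp := (Subgroup.subgroupOfEquivOfLe J_le_II).trans e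
  have hs : IsSimpleGroup ↥(J.subgroupOf II) := eN.isSimpleGroup_congr.2 pomega_simple
  refine fstar_eq_of_simple hs ?_ ?_
  · by_contra hall
    push Not at hall
    haveI := hs
    letI : CommGroup ↥(J.subgroupOf II) :=
      { (inferInstance : Group ↥(J.subgroupOf II)) with mul_comm := fun a b => (hall a b).eq }
    have hp := IsSimpleGroup.prime_card (α := ↥(J.subgroupOf II))
    have hc : Nat.card ↥(J.subgroupOf II) = 4952179814400 := by
      rw [Nat.card_congr eN.toEquiv]
      have h8 := S0293.result (F := ZMod 3) (q := 3) (ZMod.card 3) 4 le_rfl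
      norm_num [Finset.prod_range_succ, -Nat.card_eq_fintype_card] at h8
      show Nat.card (Cfsg.POmega (ZMod 3) (Cfsg.quadFormPlus 4 (ZMod 3))) = _
      omega
    rw [hc] at hp
    exact absurd hp (by norm_num)
  · rw [Subgroup.eq_bot_iff_forall]
    intro g hg
    refine Subtype.ext (centralizer_J g.2 fun j hj => ?_)
    have := Subgroup.mem_centralizer_iff.1 hg ⟨j, J_le_II hj⟩ hj
    exact (congrArg Subtype.val this).symm

universe u

variable {G : Type u} [Group G] {D : Set G}

theorem transport {T : GT ≃* G} (hT : T '' Fi23.D = D) :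
    ∃ L : Subgroup G, Cfsg.IsDSubgroup D L ∧
      Nonempty (↥(Cfsg.generalizedFittingSubgroup ↥L) ≃* Cfsg.POmega (ZMod 3) (Cfsg.quadFormPlus 4 (ZMod 3))) ∧
      (∃ _ : (Cfsg.generalizedFittingSubgroup ↥L).Normal,
        Nonempty (↥L ⧸ Cfsg.generalizedFittingSubgroup ↥L ≃* Equiv.Perm (Fin 3))) ∧
      ∀ d ∈ D, d ∈ L → Nonempty (↥(L ⊓ Subgroup.centralizer ({d} : Set G)) ≃*
        Multiplicative (ZMod 2) × Cfsg.POmega (ZMod 3) (Cfsg.quadFormOdd 3 (ZMod 3))) := by
  haveI := Fi23.order_facts.1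
  refine ⟨II.map T.toMonoidHom, ?_, ?_, ?_, ?_⟩
  · show Subgroup.closure _ = _
    refine le_antisymm ((Subgroup.closure_le _).2 fun d hd => hd.2) ?_
    rw [Subgroup.map_le_iff_le_comap]
    refine (Subgroup.closure_le _).2 ?_
    have key : ∀ v, v ∈ Fi23.D → v ∈ II → v ∈ (Subgroup.closure {d : G | d ∈ D ∧ d ∈ II.map T.toMonoidHom}).comap
        T.toMonoidHom := fun v h1 h2 =>
      Subgroup.mem_comap.2 (Subgroup.subset_closure ⟨hT ▸ ⟨v, h1, rfl⟩, ⟨v, h2, rfl⟩⟩)
    rintro v (⟨x, ⟨h1, h9⟩, rfl⟩ | rfl)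
    · refine key _ ?_ (gg_mem h1 h9)
      obtain ⟨hlt, ht⟩ := tr_gpt (show x < 10 by omega)
      rw [gg_eq, ← ht]
      exact tr_mem _
    · obtain ⟨h, e⟩ := ss_eq
      exact key _ (e ▸ tr_mem _) ss_mem
  · let E := MulEquiv.subgroupMap T II
    obtain ⟨eJ⟩ := exists_J_iso
    refine ⟨(MulEquiv.subgroupCongr (Components.generalizedFitting_map_equiv E).symm).trans
      ((E.subgroupMap _).symm.trans ((MulEquiv.subgroupCongr fstar_II).trans
        ((Subgroup.subgroupOfEquivOfLe J_le_II).trans eJ)))⟩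
  · refine ⟨Components.generalizedFitting_normal, ?_⟩
    let E := MulEquiv.subgroupMap T II
    haveI := J_normal
    haveI := Components.generalizedFitting_normal (G := ↥II)
    haveI := Components.generalizedFitting_normal (G := ↥(II.map (T : GT →* G)))
    exact ⟨(QuotientGroup.congr _ _ E (Components.generalizedFitting_map_equiv E)).symm.trans
      ((QuotientGroup.quotientMulEquivOfEq (fstar_II.trans psi_ker.symm)).trans
        (QuotientGroup.quotientKerEquivOfSurjective psi psi_surj))⟩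
  · intro d hd hdL
    obtain ⟨v, hv, rfl⟩ : d ∈ T '' Fi23.D := hT.symm ▸ hd
    obtain ⟨v', hv', e⟩ := hdL
    obtain rfl : v' = v := T.injective e
    obtain ⟨⟨p, hp⟩, rfl⟩ := exists_tr hv
    obtain ⟨g, hg, e0⟩ := exists_carry hp (cls_of_mem hp hv')
    have hgz : g * Fi23.z * g⁻¹ = tr ⟨p, hp⟩ := by
      rw [← tr_zero, ← tr_hom]
      exact congrArg tr (Fin.ext ((apt_of_lt g (show 0 < 31671 by norm_num)).symm.trans e0))
    obtain ⟨U, hU⟩ : ∃ U : GT ≃* G, U = (MulAut.conj g).trans T := ⟨_, rfl⟩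
    have hImg : II.map U.toMonoidHom = II.map T.toMonoidHom := by
      rw [hU, show ((MulAut.conj g).trans T).toMonoidHom = T.toMonoidHom.comp (MulAut.conj g).toMonoidHom from rfl,
        ← Subgroup.map_map]
      exact congrArg (Subgroup.map T.toMonoidHom)
        (Subgroup.mem_normalizer_iff_map_conj_eq.1 (Subgroup.le_normalizer hg))
    have hz : U Fi23.z = T (tr ⟨p, hp⟩) := by rw [hU, ← hgz]; rfl
    have heq : II.map T.toMonoidHom ⊓ Subgroup.centralizer ({T (tr ⟨p, hp⟩)} : Set G) =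
        (II ⊓ Subgroup.centralizer ({Fi23.z} : Set GT)).map U.toMonoidHom := by
      rw [Subgroup.map_inf _ _ _ U.injective, hImg, ← hz]
      congr 1
      ext x
      obtain ⟨w, rfl⟩ := U.surjective x
      rw [Subgroup.mem_map_equiv, U.symm_apply_apply, Subgroup.mem_centralizer_singleton_iff,
        Subgroup.mem_centralizer_singleton_iff, ← map_mul, ← map_mul, U.injective.eq_iff]
    obtain ⟨e2⟩ := stab_iso
    exact ⟨(MulEquiv.subgroupCongr heq).trans
      ((Subgroup.equivMapOfInjective _ U.toMonoidHom U.injective).symm.trans e2)⟩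

end Cfsg.Agent.Fi23Plus
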