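import Cfsg.Agent.Lib.Fi23Plus.Data
import Cfsg.Agent.Lib.FischerUnique23.Facts
import Cfsg.Agent.Lib.FischerPresented.Out23Bound

/-!
Three classes of 1080 transpositions of presented Fi23 and the subgroup they generate: the action on the
coset numbers.
-/

set_option autoImplicit false
set_option maxRecDepth 100000

namespace Cfsg.Agent.Fi23Plus

open Cfsg.Agent.CosetCert
open Cfsg.Agent.CosetData
open Cfsg.Agent.FischerPresented
open Cfsg.Agent.Fi23Ord3
open Cfsg.Agent.FischerPresented.Out23 (tr tr_mem tr_hom exists_tr tr_gpt gpt tr_injective tr_zero)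

/-- A generator as an element. -/
noncomputable abbrev gg (x : ℕ) : GT := el [x]

theorem gg_eq (x : ℕ) : gg x = Setup.gen Fi23A.setup x := by simp [gg, el, wprod]

theorem gg_sq (x : ℕ) : gg x * gg x = 1 := by rw [gg_eq]; exact Setup.gen_invol _ x

theorem gg_inv (x : ℕ) : (gg x)⁻¹ = gg x := inv_eq_of_mul_eq_one_right (gg_sq x)

theorem el_cons (x : ℕ) (w : List ℕ) : el (x :: w) = el w * gg x := el_append [x] w

theorem el_reverse : ∀ v : List ℕ, el v.reverse = (el v)⁻¹
  | [] => by simp [el_nil]
  | x :: v => by rw [List.reverse_cons, el_append, el_reverse v, el_cons x v, mul_inv_rev, gg_inv]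

/-- The index of the class of a coset number, three outside. -/
noncomputable def cls (p : ℕ) : ℕ := clsT.look p

/-- The distance from the root. -/
noncomputable def rankP (p : ℕ) : ℕ := Nat.shiftRight (stepT.look p) 4

/-- The last generator of the path from the root. -/
noncomputable def lastP (p : ℕ) : ℕ := Nat.land (stepT.look p) 15

/-- The root of a class. -/
def rootC (c : ℕ) : ℕ := bif Nat.beq c 0 then 0 else uR

/-- A coset number is a root or is moved to by a generator from a nearer one of the same class. -/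
noncomputable def treeAt (p : ℕ) : Bool :=
  Nat.beq (cls p) 1 || (Nat.beq (cls p) 2 || (Nat.beq p (rootC (cls p)) ||
    (Nat.ble 1 (lastP p) && (Nat.ble (lastP p) 9 && (Nat.blt (parT.look p) 31671 &&
      (Nat.beq (cls (parT.look p)) (cls p) && (Nat.blt (rankP (parT.look p)) (rankP p) &&
        Nat.beq (fstep (lastP p) (parT.look p)) p)))))))

theorem tree_ok : allBelow treeAt 31671 = true := by decide +kernel

theorem root_ok : cls 0 = 0 ∧ cls uR = 3 ∧ uR < 31671 := by decide +kernel

/-- The subgroup generated by the nine generators. -/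
noncomputable def W : Subgroup GT := Subgroup.closure (gg '' {x | 1 ≤ x ∧ x ≤ 9})

theorem gg_mem_W {x : ℕ} (h1 : 1 ≤ x) (h9 : x ≤ 9) : gg x ∈ W := Subgroup.subset_closure ⟨x, ⟨h1, h9⟩, rfl⟩

theorem apt_gg {x p : ℕ} (hx : x < 10) (hp : p < 31671) : apt (gg x) p = fstep x p :=
  apt_el (w := [x]) (by simp [wok, hx]) hp

/-- The nine generators reach each point of the first class and outside from the root. -/
theorem exists_W : ∀ {p : ℕ}, p < 31671 → cls p ≠ 1 → cls p ≠ 2 →
    ∃ g ∈ W, apt g (rootC (cls p)) = p := by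
  intro p
  induction hr : rankP p using Nat.strong_induction_on generalizing p with | _ r ih => ?_
  intro hp h1 h2
  have h := allBelow_spec tree_ok hp
  simp only [treeAt, Bool.or_eq_true, Bool.and_eq_true, Nat.beq_eq, Nat.blt_eq, Nat.ble_eq, h1, h2, false_or] at h
  rcases h with h | ⟨a1, a9, hq, hc, hlt, he⟩
  · exact ⟨1, one_mem _, by rw [apt_one]; exact h.symm⟩
  · obtain ⟨g, hg, e⟩ := ih _ (hr ▸ hlt) rfl hq (hc ▸ h1) (hc ▸ h2)
    refine ⟨gg (lastP p) * g, mul_mem (gg_mem_W a1 a9) hg, ?_⟩
    rw [hc] at e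
    rw [apt_mul, e, apt_gg (by omega) hq, he]

/-- A word of a transposition given by a path from a generator. -/
theorem tr_conj_word {v : List ℕ} {x : ℕ} (hx : x < 10) (hv : wok v = true) :
    ∃ hp : actF v (gpt x) < 31671, el (v.reverse ++ ([x] ++ v)) = tr ⟨actF v (gpt x), hp⟩ := by
  obtain ⟨hlt, ht⟩ := tr_gpt hx
  refine ⟨(actF_eq hv hlt).2, ?_⟩
  have e : Out23.hm (el v) ⟨gpt x, hlt⟩ = ⟨actF v (gpt x), (actF_eq hv hlt).2⟩ :=
    Fin.ext ((apt_of_lt _ hlt).symm.trans (apt_el hv hlt))
  rw [← e, tr_hom, ht, ← gg_eq, el_append, el_append, el_reverse]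

/-- The generators fix exactly the same coset numbers as a given one. -/
noncomputable def samePat (u q : ℕ) : Bool :=
  allBelow (fun x => Nat.beq (fstep (x + 1) q) q == Nat.beq (fstep (x + 1) u) u) 9

theorem pat_zero : allBelow (fun q => Nat.beq q 0 || !(samePat 0 q)) 31671 = true := by decide +kernel

theorem pat_root : allBelow (fun q => Nat.beq q uR || !(samePat uR q)) 31671 = true := by decide +kernel

theorem pts_cls : (Fi23.pts.all fun p => Nat.blt p 31671 && (Nat.beq (cls p) 0 || Nat.beq (cls p) 3)) = true := by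
  decide +kernel

/-- Only the trivial element commutes with the nine generators. -/
theorem eq_one_of_commute {g : GT} (h : ∀ x, 1 ≤ x → x ≤ 9 → Commute g (gg x)) : g = 1 := by
  have hW : ∀ w ∈ W, Commute g w := by
    intro w hw
    induction hw using Subgroup.closure_induction with
    | mem v hv => obtain ⟨x, hx, rfl⟩ := hv; exact h x hx.1 hx.2
    | one => exact Commute.one_right _
    | mul a b _ _ ha hb => exact ha.mul_right hb
    | inv a _ ha => exact ha.inv_right
  have key : ∀ u, u < 31671 → allBelow (fun q => Nat.beq q u || !(samePat u q)) 31671 = true →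
      apt g u = u := by
    intro u hu hpat
    have hq := allBelow_spec hpat (apt_lt g hu)
    simp only [Bool.or_eq_true, Nat.beq_eq, Bool.not_eq_true'] at hq
    refine hq.resolve_right fun hne => ?_
    refine Bool.false_ne_true (hne.symm.trans (Out23.allBelow_intro fun x hx => ?_))
    rw [beq_iff_eq, Bool.eq_iff_iff, Nat.beq_eq, Nat.beq_eq, ← apt_gg (by omega) (apt_lt g hu),
      ← apt_gg (by omega) hu, ← apt_mul, ← (h (x + 1) (by omega) (by omega)).eq, apt_mul]
    exact ⟨fun e => apt_injective g e, fun e => by rw [e]⟩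
  refine eq_one_of_apt fun p hp => ?_
  have hh := List.all_eq_true.1 pts_cls p hp
  simp only [Bool.and_eq_true, Bool.or_eq_true, Nat.blt_eq, Nat.beq_eq] at hh
  obtain ⟨w, hw, e⟩ := exists_W hh.1 (by omega) (by omega)
  have hroot : apt g (rootC (cls p)) = rootC (cls p) := by
    rcases hh.2 with hc | hc <;> rw [hc]
    · exact key 0 (by norm_num) pat_zero
    · exact key uR root_ok.2.2 pat_root
  rw [← e, ← apt_mul, (hW w hw).eq, apt_mul, hroot]

end Cfsg.Agent.Fi23Plus
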