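import Cfsg.Agent.Lib.Fi23Plus.Even
import Cfsg.Agent.S0293

/-!
The group generated by three classes of 1080 transpositions: its even subgroup has index six and trivial
centraliser.
-/

set_option autoImplicit false
set_option maxRecDepth 100000

namespace Cfsg.Agent.Fi23Plus

open Cfsg.Agent.CosetCert
open Cfsg.Agent.FischerPresented
open Cfsg.Agent.Fi23Ord3
open Cfsg.Agent.FischerPresented.Out23 (tr tr_mem tr_hom exists_tr tr_gpt gpt tr_injective tr_zero)

/-- The outer transposition. -/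
noncomputable def ss : GT := el sW

/-- The path of the outer transposition. -/
def sV : List ℕ := sW.drop 36

theorem sW_shape : sW = sV.reverse ++ ([0] ++ sV) ∧ wok sV = true ∧ cls (actF sV (gpt 0)) = 1 ∧ wok sW = true := by
  decide +kernel

/-- The path of the transposition outside. -/
def uV : List ℕ := uW.drop (uW.length / 2 + 1)

theorem uW_shape : uW = uV.reverse ++ ([0] ++ uV) ∧ wok uV = true ∧ actF uV (gpt 0) = uR ∧ wok uW = true ∧
    witA < 31671 ∧ cls witA = 0 ∧ cls (actF uW witA) = 3 := by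
  decide +kernel

theorem ss_eq : ∃ h : actF sV (gpt 0) < 31671, ss = tr ⟨actF sV (gpt 0), h⟩ := by
  obtain ⟨hp, e⟩ := tr_conj_word (v := sV) (x := 0) (by norm_num) sW_shape.2.1
  exact ⟨hp, by rw [← e, ← sW_shape.1]; rfl⟩

theorem ss_sq : ss * ss = 1 := by
  obtain ⟨h, e⟩ := ss_eq
  rw [e]
  exact Fischer.TSet.sq FischerUnique23.D23_group.1 (tr_mem _)

theorem ss_inv : ss⁻¹ = ss := inv_eq_of_mul_eq_one_right ss_sq

/-- The group generated by the three classes. -/
noncomputable def II : Subgroup GT := Subgroup.closure (gg '' {x | 1 ≤ x ∧ x ≤ 9} ∪ {ss})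

theorem W_le_II : W ≤ II := Subgroup.closure_mono Set.subset_union_left

theorem J_le_II : J ≤ II := J_le_W.trans W_le_II

theorem ss_mem : ss ∈ II := Subgroup.subset_closure (Or.inr rfl)

theorem gg_mem {x : ℕ} (h1 : 1 ≤ x) (h9 : x ≤ 9) : gg x ∈ II := W_le_II (gg_mem_W h1 h9)

/-- The swap of classes by a generator. -/
def sigG : Equiv.Perm (Fin 3) := Equiv.swap 1 2

/-- The swap of classes by the outer transposition. -/
def sigS : Equiv.Perm (Fin 3) := Equiv.swap 0 2

/-- The classes are moved in the given way by a word. -/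
noncomputable def moveAt (w : List ℕ) (tgt : List ℕ) (p : ℕ) : Bool :=
  Nat.beq (cls p) 3 || (Nat.blt (cls p) 3 && Nat.beq (cls (actF w p)) (tgt.getD (cls p) 0))

theorem move_gen : allBelow (fun x => allBelow (moveAt [x + 1] [0, 2, 1]) 31671) 9 = true := by decide +kernel

theorem move_out : allBelow (moveAt sW [2, 1, 0]) 31671 = true := by decide +kernel

theorem count_ok : Out23.countBelow (fun p => Nat.blt (cls p) 3) 31671 = 3240 := by decide +kernel

theorem jw_ok : allBelow (fun i => sameW (sW ++ ([1, i + 1] ++ sW)) (jws.getD i []) &&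
    (Nat.beq ((jws.getD i []).length % 2) 0 && (jws.getD i []).all fun x => Nat.ble 1 x && Nat.ble x 9)) 9 = true := by
  decide +kernel

theorem six_braid : sameW (sW ++ [1] ++ sW) ([1] ++ sW ++ [1]) = true := by decide +kernel

/-- The element permutes the classes in this way. -/
def Moves (g : GT) (σ : Equiv.Perm (Fin 3)) : Prop :=
  ∀ p < 31671, ∀ h : cls p < 3, cls (apt g p) = (σ ⟨cls p, h⟩ : Fin 3)

theorem Moves.lt {g : GT} {σ : Equiv.Perm (Fin 3)} (hg : Moves g σ) {p : ℕ} (hp : p < 31671) (h : cls p < 3) :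
    cls (apt g p) < 3 := hg p hp h ▸ Fin.isLt _

theorem exists_cls : ∀ k : Fin 3, ∃ p, p < 31671 ∧ cls p = k := by
  intro k
  have hs := ss_eq
  obtain ⟨h, -⟩ := hs
  have hz : cls (actF sW 0) = 2 := by decide +kernel
  fin_cases k
  · exact ⟨0, by norm_num, root_ok.1⟩
  · exact ⟨_, h, sW_shape.2.2.1⟩
  · exact ⟨_, (actF_eq sW_shape.2.2.2 (by norm_num : 0 < 31671)).2, hz⟩

theorem Moves.unique {g : GT} {s t : Equiv.Perm (Fin 3)} (hs : Moves g s) (ht : Moves g t) : s = t :=
  Equiv.ext fun k => by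
    obtain ⟨p, hp, hk⟩ := exists_cls k
    have h : cls p < 3 := hk ▸ k.2
    have e : (⟨cls p, h⟩ : Fin 3) = k := Fin.ext hk
    refine Fin.ext ?_
    rw [← e, ← hs p hp h, ← ht p hp h]

theorem moves_one : Moves 1 1 := fun p _ h => by rw [apt_one]; rfl

theorem Moves.mul {g h : GT} {s t : Equiv.Perm (Fin 3)} (hg : Moves g s) (hh : Moves h t) : Moves (g * h) (s * t) := by
  intro p hp hc
  rw [apt_mul, hg _ (apt_lt h hp) (hh.lt hp hc)]
  refine congrArg (fun k => ((s k : Fin 3) : ℕ)) (Fin.ext ?_)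
  exact hh p hp hc

theorem moves_gg {x : ℕ} (h1 : 1 ≤ x) (h9 : x ≤ 9) : Moves (gg x) sigG := by
  intro p hp hc
  have h := allBelow_spec (allBelow_spec move_gen (show x - 1 < 9 by omega)) hp
  simp only [moveAt, Nat.sub_add_cancel h1, Bool.or_eq_true, Bool.and_eq_true, Nat.beq_eq, Nat.blt_eq] at h
  rw [apt_el (by simp [wok]; omega) hp, (h.resolve_left (by omega)).2]
  exact (by decide : ∀ k : Fin 3, [0, 2, 1].getD (k : ℕ) 0 = ((sigG k : Fin 3) : ℕ)) ⟨cls p, hc⟩

theorem moves_ss : Moves ss sigS := by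
  intro p hp hc
  have h := allBelow_spec move_out hp
  simp only [moveAt, Bool.or_eq_true, Bool.and_eq_true, Nat.beq_eq, Nat.blt_eq] at h
  rw [ss, apt_el sW_shape.2.2.2 hp, (h.resolve_left (by omega)).2]
  exact (by decide : ∀ k : Fin 3, [2, 1, 0].getD (k : ℕ) 0 = ((sigS k : Fin 3) : ℕ)) ⟨cls p, hc⟩

theorem II_moves {g : GT} (hg : g ∈ II) : ∃ s, Moves g s := by
  induction hg using Subgroup.closure_induction'' with
  | mem g hg =>
    rcases hg with ⟨x, hx, rfl⟩ | rfl
    · exact ⟨_, moves_gg hx.1 hx.2⟩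
    · exact ⟨_, moves_ss⟩
  | inv_mem g hg =>
    rcases hg with ⟨x, hx, rfl⟩ | rfl
    · rw [gg_inv]; exact ⟨_, moves_gg hx.1 hx.2⟩
    · rw [ss_inv]; exact ⟨_, moves_ss⟩
  | one => exact ⟨1, moves_one⟩
  | mul a b _ _ ha hb =>
    obtain ⟨s, hs⟩ := ha
    obtain ⟨t, ht⟩ := hb
    exact ⟨s * t, hs.mul ht⟩

/-- The action on the classes. -/
noncomputable def psi : ↥II →* Equiv.Perm (Fin 3) :=
  MonoidHom.mk' (fun g => (II_moves g.2).choose) fun a b =>
    Moves.unique (II_moves (a * b).2).choose_spec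
      ((II_moves a.2).choose_spec.mul (II_moves b.2).choose_spec)

theorem psi_eq {g : ↥II} {s : Equiv.Perm (Fin 3)} (h : Moves g s) : psi g = s :=
  Moves.unique (II_moves g.2).choose_spec h

theorem J_moves {g : GT} (hg : g ∈ J) : Moves g 1 := by
  induction hg using Subgroup.closure_induction'' with
  | mem v hv =>
    obtain ⟨x, h1, h9, rfl⟩ := hv
    have := (moves_gg h1 h9).mul (moves_gg le_rfl (by norm_num : (1 : ℕ) ≤ 9))
    rwa [show sigG * sigG = 1 by decide] at this
  | inv_mem v hv =>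
    obtain ⟨x, h1, h9, rfl⟩ := hv
    rw [mul_inv_rev, gg_inv, gg_inv]
    have := (moves_gg le_rfl (by norm_num : (1 : ℕ) ≤ 9)).mul (moves_gg h1 h9)
    rwa [show sigG * sigG = 1 by decide] at this
  | one => exact moves_one
  | mul a b _ _ ha hb => have := ha.mul hb; rwa [one_mul] at this

theorem el_even_mem : ∀ (l : List ℕ), (∀ x ∈ l, 1 ≤ x ∧ x ≤ 9) → l.length % 2 = 0 → el l ∈ J
  | [], _, _ => one_mem _
  | [x], _, h => by simp at h
  | x :: y :: l, hl, h => by
    rw [el_cons, el_cons, mul_assoc]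
    exact mul_mem (el_even_mem l (fun v hv => hl v (by simp [hv])) (by simp at h; omega))
      (pair_mem_J (hl y (by simp)).1 (hl y (by simp)).2 (hl x (by simp)).1 (hl x (by simp)).2)

theorem ss_conj_J {g : GT} (hg : g ∈ J) : ss * g * ss ∈ J := by
  induction hg using Subgroup.closure_induction with
  | mem v hv =>
    obtain ⟨x, h1, h9, rfl⟩ := hv
    have h := allBelow_spec jw_ok (show x - 1 < 9 by omega)
    simp only [Bool.and_eq_true, Nat.beq_eq, List.all_eq_true, Nat.ble_eq, Nat.sub_add_cancel h1] at h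
    have e := el_eq h.1
    rw [el_append, el_append, show el [1, x] = gg x * gg 1 from el_cons 1 [x]] at e
    rw [show ss * (gg x * gg 1) * ss = el (jws.getD (x - 1) []) from e]
    exact el_even_mem _ h.2.2 h.2.1
  | one => rw [mul_one, ss_sq]; exact one_mem _
  | mul a b _ _ ha hb =>
    have := mul_mem ha hb
    rwa [show ss * a * ss * (ss * b * ss) = ss * a * (ss * ss) * b * ss by simp only [mul_assoc], ss_sq, mul_one,
      mul_assoc ss a b] at this
  | inv a _ ha =>
    have := inv_mem ha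
    rwa [mul_inv_rev, mul_inv_rev, ss_inv, ← mul_assoc] at this

/-- The six representatives. -/
noncomputable def six : List GT := [1, gg 1, ss, gg 1 * ss, ss * gg 1, gg 1 * ss * gg 1]

theorem braid : ss * gg 1 * ss = gg 1 * ss * gg 1 := by
  have e := el_eq six_braid
  rw [el_append, el_append, el_append, el_append, ← mul_assoc, ← mul_assoc] at e
  exact e

theorem six_gg {t : GT} (ht : t ∈ six) : gg 1 * t ∈ six := by
  simp only [six, List.mem_cons, List.not_mem_nil, or_false] at ht ⊢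
  rcases ht with rfl | rfl | rfl | rfl | rfl | rfl
  · simp
  · simp [gg_sq]
  · simp
  · simp [← mul_assoc, gg_sq]
  · simp [← mul_assoc]
  · simp [← mul_assoc, gg_sq]

theorem six_ss {t : GT} (ht : t ∈ six) : ss * t ∈ six := by
  simp only [six, List.mem_cons, List.not_mem_nil, or_false] at ht ⊢
  rcases ht with rfl | rfl | rfl | rfl | rfl | rfl
  · simp
  · simp
  · simp [ss_sq]
  · simp [← mul_assoc, braid]
  · simp [← mul_assoc, ss_sq]
  · refine Or.inr (Or.inr (Or.inr (Or.inl ?_)))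
    rw [← braid, ← mul_assoc, ← mul_assoc, ss_sq, one_mul]

theorem II_decomp {g : GT} (hg : g ∈ II) : ∃ j ∈ J, ∃ t ∈ six, g = j * t := by
  induction hg using Subgroup.closure_induction_left with
  | one => exact ⟨1, one_mem _, 1, by simp [six], by rw [one_mul]⟩
  | mul_left v hv a _ ih =>
    obtain ⟨j, hj, t, ht, rfl⟩ := ih
    rcases hv with ⟨x, ⟨h1, h9⟩, rfl⟩ | rfl
    · refine ⟨gg x * j * gg 1, ?_, gg 1 * t, six_gg ht, ?_⟩
      · have := mul_mem (pair_mem_J h1 h9 le_rfl (by norm_num : (1 : ℕ) ≤ 9))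
          (gen_conj_J le_rfl (by norm_num : (1 : ℕ) ≤ 9) hj)
        rwa [show gg x * gg 1 * (gg 1 * j * gg 1) = gg x * (gg 1 * gg 1) * j * gg 1 by simp only [mul_assoc],
          gg_sq, mul_one] at this
      · rw [mul_assoc _ (gg 1), ← mul_assoc (gg 1) (gg 1), gg_sq, one_mul, mul_assoc]
    · refine ⟨ss * j * ss, ss_conj_J hj, ss * t, six_ss ht, ?_⟩
      rw [mul_assoc _ ss, ← mul_assoc ss ss, ss_sq, one_mul, mul_assoc]
  | inv_mul_cancel v hv a _ ih =>
    obtain ⟨j, hj, t, ht, rfl⟩ := ih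
    rcases hv with ⟨x, ⟨h1, h9⟩, rfl⟩ | rfl
    · rw [gg_inv]
      refine ⟨gg x * j * gg 1, ?_, gg 1 * t, six_gg ht, ?_⟩
      · have := mul_mem (pair_mem_J h1 h9 le_rfl (by norm_num : (1 : ℕ) ≤ 9))
          (gen_conj_J le_rfl (by norm_num : (1 : ℕ) ≤ 9) hj)
        rwa [show gg x * gg 1 * (gg 1 * j * gg 1) = gg x * (gg 1 * gg 1) * j * gg 1 by simp only [mul_assoc],
          gg_sq, mul_one] at this
      · rw [mul_assoc _ (gg 1), ← mul_assoc (gg 1) (gg 1), gg_sq, one_mul, mul_assoc]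
    · rw [ss_inv]
      refine ⟨ss * j * ss, ss_conj_J hj, ss * t, six_ss ht, ?_⟩
      rw [mul_assoc _ ss, ← mul_assoc ss ss, ss_sq, one_mul, mul_assoc]

theorem psi_ker : psi.ker = J.subgroupOf II := by
  refine le_antisymm (fun g hg => ?_) (fun g hg => MonoidHom.mem_ker.2 (psi_eq (J_moves hg)))
  obtain ⟨j, hj, t, ht, e⟩ := II_decomp g.2
  have hm : Moves t 1 := by
    obtain ⟨s, hs⟩ := II_moves (show t ∈ II by
      have := mul_mem (inv_mem (J_le_II hj)) g.2
      rwa [e, inv_mul_cancel_left] at this)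
    have h1 : Moves (g : GT) 1 := (MonoidHom.mem_ker.1 hg) ▸ (II_moves g.2).choose_spec
    have h2 := (J_moves hj).mul hs
    rw [← e, one_mul] at h2
    exact (Moves.unique h2 h1) ▸ hs
  rw [Subgroup.mem_subgroupOf, e]
  have a := moves_gg le_rfl (by norm_num : (1 : ℕ) ≤ 9)
  simp only [six, List.mem_cons, List.not_mem_nil, or_false] at ht
  rcases ht with rfl | rfl | rfl | rfl | rfl | rfl
  · rwa [mul_one]
  · exact absurd (Moves.unique a hm) (by decide)
  · exact absurd (Moves.unique moves_ss hm) (by decide)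
  · exact absurd (Moves.unique (a.mul moves_ss) hm) (by decide)
  · exact absurd (Moves.unique (moves_ss.mul a) hm) (by decide)
  · exact absurd (Moves.unique ((a.mul moves_ss).mul a) hm) (by decide)

theorem psi_surj : Function.Surjective psi := by
  obtain ⟨a, ha⟩ : ∃ a, psi a = sigG := ⟨⟨gg 1, gg_mem le_rfl (by norm_num)⟩, psi_eq (moves_gg le_rfl (by norm_num))⟩
  obtain ⟨b, hb⟩ : ∃ b, psi b = sigS := ⟨⟨ss, ss_mem⟩, psi_eq moves_ss⟩
  intro σ
  rcases (by decide : ∀ σ : Equiv.Perm (Fin 3), σ = 1 ∨ σ = sigG ∨ σ = sigS ∨ σ = sigG * sigS ∨ σ = sigS * sigG ∨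
    σ = sigG * sigS * sigG) σ with rfl | rfl | rfl | rfl | rfl | rfl
  · exact ⟨1, map_one _⟩
  · exact ⟨a, ha⟩
  · exact ⟨b, hb⟩
  · exact ⟨a * b, by rw [map_mul, ha, hb]⟩
  · exact ⟨b * a, by rw [map_mul, ha, hb]⟩
  · exact ⟨a * b * a, by rw [map_mul, map_mul, ha, hb]⟩

theorem card_II : Nat.card ↥II = 6 * 4952179814400 := by
  have hJ : Nat.card ↥J = 4952179814400 := by
    obtain ⟨e⟩ := exists_J_iso
    rw [Nat.card_congr e.toEquiv]
    have h8 := S0293.result (F := ZMod 3) (q := 3) (ZMod.card 3) 4 le_rfl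
    norm_num [Finset.prod_range_succ, -Nat.card_eq_fintype_card] at h8
    show Nat.card (Cfsg.POmega (ZMod 3) (Cfsg.quadFormPlus 4 (ZMod 3))) = _
    omega
  rw [← Subgroup.card_mul_index psi.ker, Subgroup.index_ker, MonoidHom.range_eq_top.2 psi_surj, Subgroup.card_top,
    psi_ker, Nat.card_congr (Subgroup.subgroupOfEquivOfLe J_le_II).toEquiv, hJ, Nat.card_perm, Nat.card_fin]
  norm_num [Nat.factorial]

theorem pair_fix : allBelow (fun p => Nat.beq p 0 || (Nat.beq (cls p) 3 ||
    ([2, 3, 4, 5, 6, 7, 8].any fun b => !(Nat.beq (actF [1, b] p) p)))) 31671 = true := by decide +kernel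

theorem fix_zero : ([1, 2, 3, 4, 5, 6, 7, 8].all fun b => Nat.beq (fstep b 0) 0) = true := by decide +kernel

theorem gpt_cls : allBelow (fun x => Nat.beq (cls (gpt (x + 1))) 0) 9 = true := by decide +kernel

/-- The even subgroup has trivial centraliser in the whole group. -/
theorem centralizer_J {g : GT} (hg : g ∈ II) (hc : ∀ j ∈ J, Commute g j) : g = 1 := by
  obtain ⟨s, hs⟩ := II_moves hg
  have h0 : apt g 0 = 0 := by
    have hlt : apt g 0 < 31671 := apt_lt g (by norm_num)
    have h := allBelow_spec pair_fix hlt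
    simp only [Bool.or_eq_true, Nat.beq_eq, List.any_eq_true, Bool.not_eq_true'] at h
    rcases h with h | h | ⟨b, hb, hne⟩
    · exact h
    · have := hs.lt (show 0 < 31671 by norm_num) (by rw [root_ok.1]; norm_num)
      omega
    · exfalso
      have hb' : 1 ≤ b ∧ b ≤ 9 ∧ b ∈ [1, 2, 3, 4, 5, 6, 7, 8] := by
        simp only [List.mem_cons, List.not_mem_nil, or_false] at hb ⊢; omega
      have hf := List.all_eq_true.1 fix_zero
      have hw : wok [1, b] = true := by simp [wok]; omega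
      have e : apt (el [1, b]) 0 = 0 := by
        rw [el_cons, apt_mul, apt_gg (x := 1) (p := 0) (by norm_num) (by norm_num),
          Nat.eq_of_beq_eq_true (hf 1 (by simp)),
          apt_gg (x := b) (by omega) (by norm_num), Nat.eq_of_beq_eq_true (hf b hb'.2.2)]
      have hj : el [1, b] ∈ J := by
        rw [el_cons]; exact pair_mem_J hb'.1 hb'.2.1 le_rfl (by norm_num)
      rw [← apt_el hw hlt, ← apt_mul, ← (hc _ hj).eq, apt_mul, e, Nat.beq_refl] at hne
      exact Bool.noConfusion hne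
  refine eq_one_of_commute fun x h1 h9 => commute_of_fix (by omega) ?_
  have hg0 : cls (gpt x) = 0 := by
    have := Nat.eq_of_beq_eq_true (allBelow_spec gpt_cls (show x - 1 < 9 by omega))
    rwa [Nat.sub_add_cancel h1] at this
  obtain ⟨hlt, -⟩ := tr_gpt (show x < 10 by omega)
  obtain ⟨w, hw, e⟩ := exists_W hlt (by omega) (by omega)
  rw [hg0] at e
  change apt w 0 = gpt x at e
  rcases W_cases hw with hj | hj
  · rw [← e, ← apt_mul, (hc _ hj).eq, apt_mul, h0]
  · have e1 : apt (gg 1) 0 = 0 := by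
      rw [apt_gg (by norm_num) (by norm_num)]
      exact Nat.eq_of_beq_eq_true (List.all_eq_true.1 fix_zero 1 (by simp))
    have e2 : apt (w * gg 1) 0 = gpt x := by rw [apt_mul, e1, e]
    rw [← e2, ← apt_mul, (hc _ hj).eq, apt_mul, h0]

/-- The transpositions inside are the listed ones. -/
theorem cls_of_mem {p : ℕ} (hp : p < 31671) (h : tr ⟨p, hp⟩ ∈ II) : cls p < 3 := by
  by_contra hc
  have hcls : ∀ q < 31671, cls q ≤ 3 := fun q hq => by
    have h3 : allBelow (fun q => Nat.ble (cls q) 3) 31671 = true := by decide +kernel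
    exact Nat.le_of_ble_eq_true (allBelow_spec h3 hq)
  have h3 : cls p = 3 := by have := hcls p hp; omega
  obtain ⟨w, hw, e⟩ := exists_W hp (by omega) (by omega)
  rw [h3] at e
  change apt w uR = p at e
  obtain ⟨hu, eu⟩ := tr_conj_word (v := uV) (x := 0) (by norm_num) uW_shape.2.1
  rw [← uW_shape.1] at eu
  have hpu : (⟨p, hp⟩ : Fin 31671) = Out23.hm w ⟨actF uV (gpt 0), hu⟩ := Fin.ext (by
    rw [← apt_of_lt, uW_shape.2.2.1, e])
  rw [hpu, tr_hom] at h
  have hmem : el uW ∈ II := by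
    rw [eu]
    have := mul_mem (mul_mem (inv_mem (W_le_II hw)) h) (W_le_II hw)
    simpa [mul_assoc] using this
  obtain ⟨σ, hσ⟩ := II_moves hmem
  have h4 := hσ.lt uW_shape.2.2.2.2.1 (by rw [uW_shape.2.2.2.2.2.1]; norm_num)
  rw [apt_el uW_shape.2.2.2.1 uW_shape.2.2.2.2.1, uW_shape.2.2.2.2.2.2] at h4
  omega

/-- The group is transitive on the three classes. -/
theorem exists_carry {p : ℕ} (hp : p < 31671) (hc : cls p < 3) : ∃ g ∈ II, apt g 0 = p := by
  have hA : ∀ q < 31671, cls q = 0 → ∃ g ∈ II, apt g 0 = q := fun q hq h0 => by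
    obtain ⟨w, hw, e⟩ := exists_W hq (by omega) (by omega)
    rw [h0] at e
    exact ⟨w, W_le_II hw, e⟩
  have hB : ∀ q < 31671, cls q = 2 → ∃ g ∈ II, apt g 0 = q := fun q hq h2 => by
    have := moves_ss q hq (by omega)
    simp only [h2] at this
    obtain ⟨g, hg, e⟩ := hA _ (apt_lt ss hq) this
    exact ⟨ss * g, mul_mem ss_mem hg, by rw [apt_mul, e, ← apt_mul, ss_sq, apt_one]⟩
  rcases (show cls p = 0 ∨ cls p = 1 ∨ cls p = 2 by omega) with h | h | h
  · exact hA p hp h
  · have := moves_gg le_rfl (by norm_num : (1 : ℕ) ≤ 9) p hp hc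
    simp only [h] at this
    obtain ⟨g, hg, e⟩ := hB _ (apt_lt (gg 1) hp) this
    exact ⟨gg 1 * g, mul_mem (gg_mem le_rfl (by norm_num)) hg, by rw [apt_mul, e, ← apt_mul, gg_sq, apt_one]⟩
  · exact hB p hp h

end Cfsg.Agent.Fi23Plus
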